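import Cfsg.Agent.SporadicA.SharplyTransitive

/-! Degrees of sharply k-transitive actions; simplicity in degrees 11 and 12. -/

set_option autoImplicit false

open MulAction Subgroup

namespace Cfsg.Agent.SharplyTransitive

section PrimeDegree

variable {G α : Type*} [Group G] [MulAction G α] [Finite G] [Finite α] [FaithfulSMul G α]

theorem sylow_prime_degree {p : ℕ} [hp : Fact p.Prime] (hα : Nat.card α = p) (P : Sylow p G)
    (hP : Nat.card P = p) :
    centralizer ((P : Subgroup G) : Set G) ≤ P ∧
    ∃ d, d ∣ p - 1 ∧ Nat.card (normalizer ((P : Subgroup G) : Set G)) = p * d := by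
  classical
  haveI : IsCyclic P := isCyclic_of_prime_card hP
  have hcomm : ∀ x y : P, x * y = y * x := fun x y => by
    obtain ⟨g, hg⟩ := IsCyclic.exists_zpow_surjective (G := P)
    obtain ⟨i, rfl⟩ := hg x
    obtain ⟨j, rfl⟩ := hg y
    simp only [← zpow_add, add_comm]
  -- P is transitive
  have htr : ∀ a b : α, ∃ q : P, (q : G) • a = b := by
    obtain ⟨a, ha⟩ : ∃ a : α, ∃ q : P, (q : G) • a ≠ a := by
      by_contra h
      push Not at h
      have : Subsingleton P := ⟨fun x y => Subtype.ext (FaithfulSMul.eq_of_smul_eq_smul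
        (α := α) fun a => by rw [h a x, h a y])⟩
      have := Nat.card_of_subsingleton (1 : P)
      exact hp.out.ne_one (hP.symm.trans this)
    obtain ⟨q, hq⟩ := ha
    obtain ⟨k, hk⟩ := P.2.card_orbit a
    have huniv : orbit P a = Set.univ := by
      apply Set.eq_of_subset_of_ncard_le (Set.subset_univ _) _ Set.finite_univ
      rw [Set.ncard_univ, ← Nat.card_coe_set_eq, hk, hα]
      rcases k with _ | k
      · rw [pow_zero, Nat.card_coe_set_eq, Set.ncard_eq_one] at hk
        obtain ⟨z, hz⟩ := hk
        have h1 : a ∈ orbit P a := mem_orbit_self a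
        have h2 : q • a ∈ orbit P a := mem_orbit a q
        rw [hz, Set.mem_singleton_iff] at h1 h2
        exact absurd (h2.trans h1.symm) hq
      · exact Nat.le_self_pow (by omega) p
    intro b c
    have hb : b ∈ orbit P a := by rw [huniv]; trivial
    have hc : c ∈ orbit P a := by rw [huniv]; trivial
    obtain ⟨x, rfl⟩ := hb
    obtain ⟨y, rfl⟩ := hc
    refine ⟨y * x⁻¹, ?_⟩
    show (y * x⁻¹) • x • a = y • a
    rw [← mul_smul, inv_mul_cancel_right]
  have hC : centralizer ((P : Subgroup G) : Set G) ≤ P := by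
    intro g hg
    obtain ⟨a⟩ : Nonempty α := (Nat.card_pos_iff.1 (hα ▸ hp.out.pos)).1
    obtain ⟨q, hq⟩ := htr a (g • a)
    have : g = (q : G) := FaithfulSMul.eq_of_smul_eq_smul (α := α) fun b => by
      obtain ⟨r, rfl⟩ := htr a b
      have h1 : (r : G) * g = g * (r : G) := mem_centralizer_iff.1 hg _ r.2
      have h2 : (r : G) * q = q * (r : G) := congrArg Subtype.val (hcomm r q)
      rw [← mul_smul, ← h1, ← mul_smul (q : G), ← h2, mul_smul, mul_smul, hq]
    exact this ▸ q.2
  refine ⟨hC, ?_⟩
  set N := normalizer ((P : Subgroup G) : Set G) with hN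
  have key := card_dvd_of_injective _
    (QuotientGroup.kerLift_injective (P : Subgroup G).normalizerMonoidHom)
  rw [IsCyclic.card_mulAut, hP, Nat.totient_prime hp.out] at key
  refine ⟨_, key, ?_⟩
  rw [card_eq_card_quotient_mul_card_subgroup (P : Subgroup G).normalizerMonoidHom.ker, mul_comm p]
  congr 1
  rw [normalizerMonoidHom_ker]
  have hPC : (P : Subgroup G) ≤ centralizer ((P : Subgroup G) : Set G) := fun x hx =>
    mem_centralizer_iff.2 fun y hy => congrArg Subtype.val (hcomm ⟨y, hy⟩ ⟨x, hx⟩)
  rw [le_antisymm hC hPC]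
  rw [Nat.card_congr (subgroupOfEquivOfLe le_normalizer).toEquiv]
  exact hP

end PrimeDegree

theorem sylow_card {G : Type*} [Group G] [Finite G] {p m : ℕ} [hp : Fact p.Prime] (P : Sylow p G)
    (h : Nat.card G = p * m) (hm : ¬ p ∣ m) : Nat.card P = p := by
  have hP := P.card_eq_multiplicity
  rw [hP, h]
  have hm0 : m ≠ 0 := fun e => hm (by simp [e])
  rw [Nat.factorization_mul hp.out.ne_zero hm0, Finsupp.add_apply,
    hp.out.factorization_self, Nat.factorization_eq_zero_of_not_dvd hm, pow_one]

theorem degree13 {G α : Type*} [Group G] [MulAction G α] [Fintype α]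
    (hα : Fintype.card α = 13) (ht : IsMultiplyPretransitive G α 6)
    (hs : ∀ x : Fin 6 ↪ α, stabilizer G x = ⊥) : False := by
  have hn : Nat.card α = 13 := by rw [Nat.card_eq_fintype_card, hα]
  have h6 : 6 ≤ Nat.card α := by omega
  haveI : Finite G := finite h6 hs
  haveI : FaithfulSMul G α := faithful h6 hs
  have hcard : Nat.card G = 1235520 := by
    rw [card_eq (by omega) ht hs, hα]; rfl
  haveI : Fact (Nat.Prime 13) := ⟨by norm_num⟩
  obtain ⟨P⟩ : Nonempty (Sylow 13 G) := inferInstance
  have hP : Nat.card P = 13 := sylow_card P (m := 95040) hcard (by norm_num)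
  obtain ⟨-, d, hd, hN⟩ := sylow_prime_degree hn P hP
  have h1 := card_mul_index (normalizer ((P : Subgroup G) : Set G))
  have h2 : (normalizer ((P : Subgroup G) : Set G)).index % 13 = 1 := by
    have := card_sylow_modEq_one 13 G
    rw [P.card_eq_index_normalizer] at this
    exact this
  rw [hcard, hN] at h1
  have hd' : d ≤ 12 := Nat.le_of_dvd (by norm_num) hd
  interval_cases d <;> first | omega | norm_num at hd

theorem degree_five {G α : Type*} [Group G] [MulAction G α] [Fintype α]
    (h5 : 5 ≤ Fintype.card α) (ht : IsMultiplyPretransitive G α 5)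
    (hs : ∀ x : Fin 5 ↪ α, stabilizer G x = ⊥) :
    Fintype.card α ≤ 7 ∨ Fintype.card α = 12 := by
  classical
  by_cases h : Fintype.card α ≤ 7
  · exact Or.inl h
  · obtain ⟨a⟩ : Nonempty α := Fintype.card_pos_iff.1 (by omega)
    haveI := Fintype.ofFinite (SubMulAction.ofStabilizer G a)
    have hc := card_ofStabilizer (G := G) a
    rw [Nat.card_eq_fintype_card, Nat.card_eq_fintype_card] at hc
    have := jordan4 (stabilizer_transitive (k := 4) a (by rw [Nat.card_eq_fintype_card]; omega) ht)
      (stabilizer_sharp a hs) (by omega)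
    omega

universe u v

theorem degree_large (k : ℕ) (hk : 6 ≤ k) : ∀ {G : Type u} {α : Type v} [Group G] [MulAction G α]
    [Fintype α], k ≤ Fintype.card α → IsMultiplyPretransitive G α k →
    (∀ x : Fin k ↪ α, stabilizer G x = ⊥) → Fintype.card α ≤ k + 2 := by
  induction k, hk using Nat.le_induction with
  | base =>
    intro G α _ _ _ hn ht hs
    classical
    obtain ⟨a⟩ : Nonempty α := Fintype.card_pos_iff.1 (by omega)
    haveI := Fintype.ofFinite (SubMulAction.ofStabilizer G a)
    have hc := card_ofStabilizer (G := G) a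
    rw [Nat.card_eq_fintype_card, Nat.card_eq_fintype_card] at hc
    rcases degree_five (by omega)
      (stabilizer_transitive (k := 5) a (by rw [Nat.card_eq_fintype_card]; omega) ht)
      (stabilizer_sharp a hs) with h | h
    · omega
    · exact (degree13 (by omega) ht hs).elim
  | succ k hk ih =>
    intro G α _ _ _ hn ht hs
    classical
    obtain ⟨a⟩ : Nonempty α := Fintype.card_pos_iff.1 (by omega)
    haveI := Fintype.ofFinite (SubMulAction.ofStabilizer G a)
    have hc := card_ofStabilizer (G := G) a
    rw [Nat.card_eq_fintype_card, Nat.card_eq_fintype_card] at hc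
    have := @ih (stabilizer G a) (SubMulAction.ofStabilizer G a) _ _ _ (by omega)
      (stabilizer_transitive (k := k) a (by rw [Nat.card_eq_fintype_card]; omega) ht)
      (stabilizer_sharp a hs)
    omega

theorem isPreprimitive {G α : Type*} [Group G] [MulAction G α] [Finite α] {k : ℕ}
    (ht : IsMultiplyPretransitive G α k) (h2 : 2 ≤ k) (hk : k ≤ Nat.card α) :
    IsPreprimitive G α :=
  isPreprimitive_of_is_two_pretransitive (isMultiplyPretransitive_of_le (n := k) h2 hk)

theorem normal_transitive {G α : Type*} [Group G] [MulAction G α] [FaithfulSMul G α]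
    [IsPreprimitive G α] (N : Subgroup G) [N.Normal] (hN : N ≠ ⊥) : IsPretransitive N α := by
  apply IsQuasiPreprimitive.isPretransitive_of_normal
  intro h
  apply hN
  rw [eq_bot_iff]
  intro g hg
  rw [mem_bot]
  refine FaithfulSMul.eq_of_smul_eq_smul (α := α) fun a => ?_
  have : a ∈ fixedPoints N α := by rw [h]; trivial
  rw [one_smul]
  exact this ⟨g, hg⟩

theorem card_dvd_of_transitive {H α : Type*} [Group H] [MulAction H α] [Nonempty α]
    [IsPretransitive H α] : Nat.card α ∣ Nat.card H := by
  obtain ⟨a⟩ := ‹Nonempty α›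
  rw [← index_stabilizer_of_transitive H a]
  exact index_dvd_card _

theorem m11 {G α : Type*} [Group G] [MulAction G α] [Fintype α] (hα : Fintype.card α = 11)
    (ht : IsMultiplyPretransitive G α 4) (hs : ∀ x : Fin 4 ↪ α, stabilizer G x = ⊥) :
    IsSimpleGroup G ∧ Nat.card G = 7920 := by
  classical
  have hn : Nat.card α = 11 := by rw [Nat.card_eq_fintype_card, hα]
  haveI : Nonempty α := (Nat.card_pos_iff.1 (by omega)).1
  haveI : Finite G := finite (k := 4) (by omega) hs
  haveI : FaithfulSMul G α := faithful (k := 4) (by omega) hs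
  haveI : IsPreprimitive G α := isPreprimitive ht (by omega) (by omega)
  have hcard : Nat.card G = 7920 := by rw [card_eq (by omega) ht hs, hα]; rfl
  refine ⟨?_, hcard⟩
  haveI : Nontrivial G := Finite.one_lt_card_iff_nontrivial.1 (by omega)
  refine ⟨fun N hN => or_iff_not_imp_left.2 fun hne => ?_⟩
  haveI : Fact (Nat.Prime 11) := ⟨by norm_num⟩
  haveI := normal_transitive (α := α) N hne
  have h11 : 11 ∣ Nat.card N := hn ▸ card_dvd_of_transitive (H := N) (α := α)
  obtain ⟨Q⟩ : Nonempty (Sylow 11 N) := inferInstance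
  have hNdvd : Nat.card N ∣ 7920 := hcard ▸ card_subgroup_dvd_card N
  have hQ : Nat.card Q = 11 := by
    refine sylow_card Q (m := Nat.card N / 11) (Nat.mul_div_cancel' h11).symm fun h => ?_
    have h3 : 11 * 11 ∣ Nat.card N := by
      rw [← Nat.mul_div_cancel' h11]; exact mul_dvd_mul_left 11 h
    exact absurd (h3.trans hNdvd) (by norm_num)
  obtain ⟨P, hPQ⟩ := Q.exists_comap_subtype_eq
  have hP : Nat.card P = 11 := sylow_card P (m := 720) hcard (by norm_num)
  have hPN : (P : Subgroup G) ≤ N := by
    have h1 : (Q : Subgroup N).map N.subtype = P := by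
      apply eq_of_le_of_card_ge
      · rw [← hPQ]; exact map_comap_le _ _
      · rw [card_map_of_injective N.subtype_injective]; exact le_of_eq (hP.trans hQ.symm)
    rw [← h1]; exact map_subtype_le _
  obtain ⟨hC, d, hd, hNP⟩ := sylow_prime_degree hn P hP
  have hidx := card_mul_index (normalizer ((P : Subgroup G) : Set G))
  have hd5 : d = 5 := by
    have h2 : (normalizer ((P : Subgroup G) : Set G)).index % 11 = 1 := by
      have := card_sylow_modEq_one 11 G
      rw [P.card_eq_index_normalizer] at this
      exact this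
    rw [hcard, hNP] at hidx
    have hd' : d ≤ 10 := Nat.le_of_dvd (by norm_num) hd
    interval_cases d <;> first | omega | norm_num at hd
  subst hd5
  -- Frattini
  have hsup : normalizer ((P : Subgroup G) : Set G) ⊔ N = ⊤ := by
    have := Sylow.normalizer_sup_eq_top' P hPN
    simpa using this
  have hdiv : 144 ∣ Nat.card N := by
    have h1 : N.index ∣ Nat.card (normalizer ((P : Subgroup G) : Set G)) := by
      rw [← relIndex_top_right, ← hsup, relIndex_sup_right]
      exact relIndex_dvd_card _ _
    rw [hNP] at h1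
    have h2 := card_mul_index N
    rw [hcard] at h2
    have h3 : 144 * 55 ∣ Nat.card N * 55 := by
      rw [show 144 * 55 = Nat.card N * N.index from h2.symm]
      exact mul_dvd_mul_left _ h1
    exact Nat.dvd_of_mul_dvd_mul_right (by norm_num) h3
  have hcases : Nat.card N = 1584 ∨ Nat.card N = 7920 := by
    obtain ⟨m, hm⟩ : 1584 ∣ Nat.card N := by
      have := Nat.Coprime.mul_dvd_of_dvd_of_dvd (show Nat.Coprime 11 144 by norm_num) h11 hdiv
      norm_num at this
      exact this
    rw [hm] at hNdvd
    have h5 : m ∣ 5 := Nat.dvd_of_mul_dvd_mul_left (by norm_num)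
      (show 1584 * m ∣ 1584 * 5 from hNdvd)
    rcases (Nat.dvd_prime (by norm_num)).1 h5 with rfl | rfl <;> omega
  rcases hcases with h | h
  swap
  · exact eq_top_of_card_eq N (h.trans hcard.symm)
  exfalso
  -- Burnside: normal complement of order 144
  haveI : FaithfulSMul N α := ⟨fun h => Subtype.ext (FaithfulSMul.eq_of_smul_eq_smul h)⟩
  obtain ⟨hCQ, e, he, hNQ⟩ := sylow_prime_degree (G := N) hn Q hQ
  have hle : normalizer ((Q : Subgroup N) : Set N) ≤ centralizer ((Q : Subgroup N) : Set N) := by
    have h1 := card_mul_index (normalizer ((Q : Subgroup N) : Set N))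
    have h2 : (normalizer ((Q : Subgroup N) : Set N)).index % 11 = 1 := by
      have := card_sylow_modEq_one 11 N
      rw [Q.card_eq_index_normalizer] at this
      exact this
    rw [h, hNQ] at h1
    have he1 : e = 1 := by
      have he' : e ≤ 10 := Nat.le_of_dvd (by norm_num) he
      interval_cases e <;> first | omega | norm_num at he
    rw [he1, mul_one] at hNQ
    have : (Q : Subgroup N) = normalizer ((Q : Subgroup N) : Set N) :=
      eq_of_le_of_card_ge le_normalizer (by rw [hNQ]; exact le_of_eq hQ.symm)
    rw [← this]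
    haveI : IsCyclic Q := isCyclic_of_prime_card hQ
    intro x hx
    refine mem_centralizer_iff.2 fun y hy => ?_
    obtain ⟨g, hg⟩ := IsCyclic.exists_zpow_surjective (G := Q)
    obtain ⟨i, hi⟩ := hg ⟨x, hx⟩
    obtain ⟨j, hj⟩ := hg ⟨y, hy⟩
    have : (g ^ j * g ^ i : Q) = g ^ i * g ^ j := by rw [← zpow_add, ← zpow_add, add_comm]
    simp only at hi hj
    rw [hi, hj] at this
    exact congrArg Subtype.val this
  set K := (MonoidHom.transferSylow Q hle).ker with hKdef
  have hK : Nat.card K = 144 := by
    have := (MonoidHom.ker_transferSylow_isComplement' Q hle).card_mul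
    rw [← hKdef, h, hQ] at this
    omega
  have hKidx : K.index = 11 := by
    have := card_mul_index K
    rw [hK, h] at this
    omega
  haveI : K.Characteristic := by
    refine characteristic_iff_map_le.2 fun φ x hx => ?_
    rw [← QuotientGroup.eq_one_iff, ← orderOf_eq_one_iff]
    have h1 : orderOf (x : N ⧸ K) ∣ orderOf x :=
      orderOf_map_dvd (QuotientGroup.mk' K) x
    have h2 : orderOf (x : N ⧸ K) ∣ 11 := by
      have := orderOf_dvd_natCard (x : N ⧸ K)
      rwa [← index_eq_card, hKidx] at this
    have h3 : orderOf x ∣ 144 := by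
      obtain ⟨y, hy, rfl⟩ := hx
      show orderOf (φ y) ∣ 144
      rw [MulEquiv.orderOf_eq, ← hK]
      exact Subgroup.orderOf_dvd_natCard K hy
    exact Nat.dvd_one.1 ((show Nat.gcd 11 144 = 1 by norm_num) ▸
      Nat.dvd_gcd h2 (h1.trans h3))
  haveI : (K.map N.subtype).Normal := ConjAct.normal_of_characteristic_of_normal
  have hKG : K.map N.subtype ≠ ⊥ := fun e => by
    have : Nat.card (K.map N.subtype) = Nat.card K := card_map_of_injective N.subtype_injective
    rw [e, card_bot, hK] at this
    omega
  haveI := normal_transitive (α := α) (K.map N.subtype) hKG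
  have := card_dvd_of_transitive (H := K.map N.subtype) (α := α)
  rw [hn, show Nat.card (K.map N.subtype) = Nat.card K from card_map_of_injective N.subtype_injective, hK] at this
  norm_num at this

theorem m12 {G α : Type*} [Group G] [MulAction G α] [Fintype α] (hα : Fintype.card α = 12)
    (ht : IsMultiplyPretransitive G α 5) (hs : ∀ x : Fin 5 ↪ α, stabilizer G x = ⊥) :
    IsSimpleGroup G ∧ Nat.card G = 95040 := by
  classical
  have hn : Nat.card α = 12 := by rw [Nat.card_eq_fintype_card, hα]
  haveI : Nonempty α := (Nat.card_pos_iff.1 (by omega)).1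
  obtain ⟨a⟩ := ‹Nonempty α›
  haveI : Finite G := finite (k := 5) (by omega) hs
  haveI : FaithfulSMul G α := faithful (k := 5) (by omega) hs
  haveI hprim : IsPreprimitive G α := isPreprimitive ht (by omega) (by omega)
  have hcard : Nat.card G = 95040 := by rw [card_eq (by omega) ht hs, hα]; rfl
  refine ⟨?_, hcard⟩
  haveI : Nontrivial G := Finite.one_lt_card_iff_nontrivial.1 (by omega)
  haveI := Fintype.ofFinite (SubMulAction.ofStabilizer G a)
  have hc := card_ofStabilizer (G := G) a
  rw [hn, Nat.card_eq_fintype_card] at hc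
  have hst := stabilizer_transitive (k := 4) a (by omega) ht
  obtain ⟨hS, -⟩ := m11 (G := stabilizer G a) (by omega) hst (stabilizer_sharp a hs)
  refine ⟨fun N hN => or_iff_not_imp_left.2 fun hne => ?_⟩
  haveI := normal_transitive (α := α) N hne
  rcases hS.eq_bot_or_eq_top_of_normal (N.subgroupOf (stabilizer G a))
    inferInstance with h | h
  swap
  · rw [subgroupOf_eq_top] at h
    rw [eq_top_iff]
    intro g _
    obtain ⟨m, hm⟩ := exists_smul_eq N a (g • a)
    have : (m : G)⁻¹ * g ∈ stabilizer G a := by
      rw [mem_stabilizer_iff, mul_smul, ← hm, Subgroup.smul_def, inv_smul_smul]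
    have := N.mul_mem m.2 (h this)
    rwa [mul_inv_cancel_left] at this
  exfalso
  have hreg : ∀ m : N, (m : G) • a = a → m = 1 := by
    intro m hm
    have : (⟨(m : G), hm⟩ : stabilizer G a) ∈ N.subgroupOf (stabilizer G a) := m.2
    rw [h, mem_bot] at this
    have e := congrArg Subtype.val this
    exact Subtype.ext e
  have hinj : ∀ m m' : N, (m : G) • a = (m' : G) • a → m = m' := by
    intro m m' e
    have := hreg (m'⁻¹ * m) (by
      push_cast
      rw [mul_smul, e, inv_smul_smul])
    exact (eq_of_inv_mul_eq_one this).symm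
  have hNcard : Nat.card N = 12 := by
    rw [← hn]
    exact Nat.card_congr (Equiv.ofBijective (fun m : N => (m : G) • a)
      ⟨fun m m' e => hinj m m' e, fun b => exists_smul_eq N a b⟩)
  have hord : ∀ m m' : N, m ≠ 1 → m' ≠ 1 → orderOf m = orderOf m' := by
    intro m m' hm hm'
    haveI : IsPretransitive (stabilizer G a) (SubMulAction.ofStabilizer G a) := by
      rw [← is_one_pretransitive_iff]
      exact isMultiplyPretransitive_of_le (n := 4) (by omega)
        (by rw [Nat.card_eq_fintype_card]; omega)
    obtain ⟨g, hg⟩ := exists_smul_eq (stabilizer G a)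
      (⟨(m : G) • a, fun e => hm (hreg m e)⟩ : SubMulAction.ofStabilizer G a)
      ⟨(m' : G) • a, fun e => hm' (hreg m' e)⟩
    have hg' : (g : G) • (m : G) • a = (m' : G) • a := congrArg Subtype.val hg
    have hga : (g : G)⁻¹ • a = a := inv_smul_eq_iff.2 g.2.symm
    have hmem : (g : G) * m * (g : G)⁻¹ ∈ N := hN.conj_mem _ m.2 _
    have : (⟨(g : G) * m * (g : G)⁻¹, hmem⟩ : N) = m' := hinj _ _ (by
      simp only [mul_smul, hga, hg'])
    rw [← this, ← orderOf_coe m, Subgroup.orderOf_mk]
    exact ((MulAut.conj (g : G)).orderOf_eq _).symm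
  haveI : Fact (Nat.Prime 2) := ⟨by norm_num⟩
  haveI : Fact (Nat.Prime 3) := ⟨by norm_num⟩
  obtain ⟨x, hx⟩ := exists_prime_orderOf_dvd_card' (G := N) 2 (by omega)
  obtain ⟨y, hy⟩ := exists_prime_orderOf_dvd_card' (G := N) 3 (by omega)
  have := hord x y (by intro e; rw [e, orderOf_one] at hx; omega)
    (by intro e; rw [e, orderOf_one] at hy; omega)
  omega

end Cfsg.Agent.SharplyTransitive
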