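import Mathlib

/-! Sharply multiply transitive actions: Jordan's theorem and small-degree consequences. -/

set_option autoImplicit false

open MulAction Finset

namespace Cfsg.Agent.SharplyTransitive

section Basic

variable {G α : Type*} [Group G] [MulAction G α]

theorem eq_one_of_fix {k : ℕ} (hs : ∀ x : Fin k ↪ α, stabilizer G x = ⊥) (x : Fin k ↪ α)
    {g : G} (h : ∀ i, g • x i = x i) : g = 1 := by
  have : g ∈ stabilizer G x := by
    rw [mem_stabilizer_iff]; ext i; simpa using h i
  rw [hs x] at this
  exact Subgroup.mem_bot.1 this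

theorem eq_of_agree {k : ℕ} (hs : ∀ x : Fin k ↪ α, stabilizer G x = ⊥) (x : Fin k ↪ α)
    {g h : G} (e : ∀ i, g • x i = h • x i) : g = h := by
  have : h⁻¹ * g = 1 := eq_one_of_fix hs x fun i => by rw [mul_smul, e i, inv_smul_smul]
  exact (eq_of_inv_mul_eq_one this).symm

theorem smul_bijective {k : ℕ} (ht : IsMultiplyPretransitive G α k)
    (hs : ∀ x : Fin k ↪ α, stabilizer G x = ⊥) (x : Fin k ↪ α) :
    Function.Bijective (fun g : G => g • x) := by
  constructor
  · intro g h e
    refine eq_of_agree hs x fun i => ?_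
    have := DFunLike.congr_fun e i
    simpa using this
  · intro y
    exact ht.exists_smul_eq x y

theorem card_eq [Fintype α] {k : ℕ} (hk : k ≤ Fintype.card α)
    (ht : IsMultiplyPretransitive G α k) (hs : ∀ x : Fin k ↪ α, stabilizer G x = ⊥) :
    Nat.card G = (Fintype.card α).descFactorial k := by
  classical
  obtain ⟨x⟩ : Nonempty (Fin k ↪ α) :=
    Function.Embedding.nonempty_of_card_le (by simpa using hk)
  rw [Nat.card_congr (Equiv.ofBijective _ (smul_bijective ht hs x)), Nat.card_eq_fintype_card,
    Fintype.card_embedding_eq, Fintype.card_fin]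

theorem finite [Finite α] {k : ℕ} (hk : k ≤ Nat.card α)
    (hs : ∀ x : Fin k ↪ α, stabilizer G x = ⊥) : Finite G := by
  classical
  haveI := Fintype.ofFinite α
  obtain ⟨x⟩ : Nonempty (Fin k ↪ α) :=
    Function.Embedding.nonempty_of_card_le (by simpa [Nat.card_eq_fintype_card] using hk)
  refine Finite.of_injective (fun g : G => g • x) fun g h e => eq_of_agree hs x fun i => ?_
  simpa using DFunLike.congr_fun e i

theorem faithful [Finite α] {k : ℕ} (hk : k ≤ Nat.card α)
    (hs : ∀ x : Fin k ↪ α, stabilizer G x = ⊥) : FaithfulSMul G α := by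
  classical
  haveI := Fintype.ofFinite α
  obtain ⟨x⟩ : Nonempty (Fin k ↪ α) :=
    Function.Embedding.nonempty_of_card_le (by simpa [Nat.card_eq_fintype_card] using hk)
  exact ⟨fun h => eq_of_agree hs x fun i => h (x i)⟩

theorem stabilizer_sharp {k : ℕ} (a : α) (hs : ∀ x : Fin (k+1) ↪ α, stabilizer G x = ⊥) :
    ∀ x : Fin k ↪ SubMulAction.ofStabilizer G a, stabilizer (stabilizer G a) x = ⊥ := by
  intro x
  rw [eq_bot_iff]
  intro g hg
  rw [mem_stabilizer_iff] at hg
  rw [Subgroup.mem_bot, Subtype.ext_iff]
  refine eq_one_of_fix hs (SubMulAction.ofStabilizer.snoc x) fun i => ?_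
  rcases Fin.eq_castSucc_or_eq_last i with ⟨i, rfl⟩ | rfl
  · have := congrArg Subtype.val (DFunLike.congr_fun hg i)
    simpa [SubMulAction.ofStabilizer.snoc_castSucc, Subgroup.smul_def] using this
  · simpa [SubMulAction.ofStabilizer.snoc_last] using mem_stabilizer_iff.1 g.2

theorem stabilizer_transitive [Finite α] {k : ℕ} (a : α) (hk : k + 1 ≤ Nat.card α)
    (ht : IsMultiplyPretransitive G α (k+1)) :
    IsMultiplyPretransitive (stabilizer G a) (SubMulAction.ofStabilizer G a) k := by
  haveI : IsPretransitive G α := by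
    rw [← is_one_pretransitive_iff]
    exact isMultiplyPretransitive_of_le (n := k+1) (by omega) hk
  exact SubMulAction.ofStabilizer.isMultiplyPretransitive.mp ht

theorem card_ofStabilizer [Finite α] (a : α) :
    Nat.card (SubMulAction.ofStabilizer G a) = Nat.card α - 1 :=
  SubMulAction.nat_card_ofStabilizer_eq G a

end Basic

section Jordan

variable {G α : Type*} [Group G] [MulAction G α]

/-- The embedding attached to a duplicate-free quadruple. -/
def q4 (a b c d : α) (h : [a, b, c, d].Nodup) : Fin 4 ↪ α :=
  ⟨fun i => [a, b, c, d].get i, List.nodup_iff_injective_get.1 h⟩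

theorem exists_map4 (ht : IsMultiplyPretransitive G α 4) {a b c d a' b' c' d' : α}
    (h : [a, b, c, d].Nodup) (h' : [a', b', c', d'].Nodup) :
    ∃ g : G, g • a = a' ∧ g • b = b' ∧ g • c = c' ∧ g • d = d' := by
  obtain ⟨g, hg⟩ := ht.exists_smul_eq (q4 a b c d h) (q4 a' b' c' d' h')
  refine ⟨g, ?_, ?_, ?_, ?_⟩
  · exact DFunLike.congr_fun hg 0
  · exact DFunLike.congr_fun hg 1
  · exact DFunLike.congr_fun hg 2
  · exact DFunLike.congr_fun hg 3

theorem eq4 (hs : ∀ x : Fin 4 ↪ α, stabilizer G x = ⊥) {a b c d : α} (h : [a, b, c, d].Nodup)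
    {g k : G} (ha : g • a = k • a) (hb : g • b = k • b) (hc : g • c = k • c) (hd : g • d = k • d) :
    g = k := by
  refine eq_of_agree hs (q4 a b c d h) fun i => ?_
  fin_cases i <;> assumption

theorem invol_swap {u : G} (hu : u * u = 1) (a : α) : u • u • a = a := by
  rw [← mul_smul, hu, one_smul]

/-- Jordan: the degree of a sharply 4-transitive action is at most 6 or equals 11. -/
theorem jordan4 [Fintype α] (ht : IsMultiplyPretransitive G α 4)
    (hs : ∀ x : Fin 4 ↪ α, stabilizer G x = ⊥) (hn : 7 ≤ Fintype.card α) :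
    Fintype.card α = 11 := by
  classical
  haveI : Finite G := finite (k := 4) (by rw [Nat.card_eq_fintype_card]; omega) hs
  haveI := Fintype.ofFinite G
  set n := Fintype.card α with hnd
  let I : Finset G := univ.filter fun u => u * u = 1 ∧ u ≠ 1
  let Fx : G → Finset α := fun u => univ.filter fun a => u • a = a
  let Mv : G → Finset α := fun u => univ.filter fun a => u • a ≠ a
  have hMv : ∀ u, (Mv u).card + (Fx u).card = n := fun u => by
    have := Finset.card_filter_add_card_filter_not (s := (univ : Finset α)) (fun a => u • a = a)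
    simp only [Finset.card_univ] at this
    simp only [Mv, Fx, ne_eq]; omega
  have hle : ∀ u ∈ I, (Fx u).card ≤ 3 := by
    intro u hu
    by_contra hc
    obtain ⟨s, hsub, hcard⟩ := Finset.exists_subset_card_eq (s := Fx u) (n := 4) (by omega)
    let ψ := (Finset.equivFinOfCardEq hcard).symm
    let e : Fin 4 ↪ α := ⟨fun i => (ψ i).1, fun i j h => ψ.injective (Subtype.ext h)⟩
    exact (mem_filter.1 hu).2.2 (eq_one_of_fix hs e fun i =>
      (mem_filter.1 (hsub (ψ i).2)).2)
  have hpair : ∀ u ∈ I, ∃ a c : α, [a, u • a, c, u • c].Nodup := by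
    intro u hu
    have h1 := hMv u
    have h2 := hle u hu
    obtain ⟨a, ha⟩ : (Mv u).Nonempty := Finset.card_pos.1 (by omega)
    have hab : ({a, u • a} : Finset α).card ≤ 2 := Finset.card_le_two
    obtain ⟨c, hc, hc'⟩ := Finset.exists_mem_notMem_of_card_lt_card
      (s := ({a, u • a} : Finset α)) (t := Mv u) (by omega)
    refine ⟨a, c, ?_⟩
    simp only [Finset.mem_insert, Finset.mem_singleton, not_or] at hc'
    have hu2 := (mem_filter.1 hu).2.1
    have ha' := (mem_filter.1 ha).2
    have hc2 := (mem_filter.1 hc).2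
    have h3 : a ≠ u • c := fun e => hc'.2 (by rw [e, invol_swap hu2])
    have h4 : u • a ≠ u • c := fun e => hc'.1 (MulAction.injective u e).symm
    simp [List.nodup_cons, Ne.symm ha', Ne.symm hc2, Ne.symm hc'.1, Ne.symm hc'.2, h3, h4]
  have hsame : ∀ u ∈ I, ∀ v ∈ I, (Fx u).card = (Fx v).card := by
    intro u hu v hv
    obtain ⟨a, c, h⟩ := hpair u hu
    obtain ⟨a', c', h'⟩ := hpair v hv
    obtain ⟨g, g1, g2, g3, g4⟩ := exists_map4 ht h h'
    have hu2 := (mem_filter.1 hu).2.1
    have hv2 := (mem_filter.1 hv).2.1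
    have key : g * u = v * g := by
      refine eq4 hs h ?_ ?_ ?_ ?_
      · rw [mul_smul, mul_smul, g1, g2]
      · rw [mul_smul, mul_smul, g2, invol_swap hu2, g1, invol_swap hv2]
      · rw [mul_smul, mul_smul, g3, g4]
      · rw [mul_smul, mul_smul, g4, invol_swap hu2, g3, invol_swap hv2]
    refine Finset.card_equiv (MulAction.toPerm g) fun x => ?_
    simp only [Fx, mem_filter, mem_univ, true_and, MulAction.toPerm_apply]
    rw [← mul_smul v g, ← key, mul_smul, smul_left_cancel_iff]
  -- an involution swapping two points and fixing two others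
  obtain ⟨x⟩ : Nonempty (Fin 4 ↪ α) :=
    Function.Embedding.nonempty_of_card_le (by simpa using (show 4 ≤ n by omega))
  have hx : [x 0, x 1, x 2, x 3].Nodup := by simp [List.nodup_cons]
  have hx' : [x 1, x 0, x 2, x 3].Nodup := by simp [List.nodup_cons]
  obtain ⟨t, t1, t2, t3, t4⟩ := exists_map4 ht hx hx'
  have htI : t ∈ I := by
    refine mem_filter.2 ⟨mem_univ _, ?_, ?_⟩
    · exact eq4 hs hx (by rw [mul_smul, one_smul, t1, t2]) (by rw [mul_smul, one_smul, t2, t1])
        (by rw [mul_smul, one_smul, t3, t3]) (by rw [mul_smul, one_smul, t4, t4])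
    · intro h
      rw [h, one_smul] at t1
      simp at t1
  set f := (Fx t).card with hf
  have hf2 : 2 ≤ f := Finset.one_lt_card.2 ⟨x 2, by simp [Fx, t3], x 3, by simp [Fx, t4], by simp⟩
  have hf3 : f ≤ 3 := hle t htI
  -- first count
  have c1 : I.card * ((n - f) * (f * f - f)) = n.descFactorial 4 := by
    have : (I.sigma fun u => Mv u ×ˢ (Fx u).offDiag).card = n.descFactorial 4 := by
      have e : n.descFactorial 4 = (univ : Finset (Fin 4 ↪ α)).card := by
        rw [Finset.card_univ, Fintype.card_embedding_eq, Fintype.card_fin]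
      rw [e]
      have hm : ∀ p ∈ (I.sigma fun u => Mv u ×ˢ (Fx u).offDiag),
          [p.2.1, p.1 • p.2.1, p.2.2.1, p.2.2.2].Nodup := by
        rintro ⟨u, a, c, d⟩ hp
        simp only [mem_sigma, mem_product, mem_offDiag, I, Fx, Mv, mem_filter, mem_univ,
          true_and] at hp
        obtain ⟨⟨hu2, -⟩, ha, hc, hd, hcd⟩ := hp
        have h1 : a ≠ c := fun e => ha (e ▸ hc)
        have h2 : a ≠ d := fun e => ha (e ▸ hd)
        have h3 : u • a ≠ c := fun e => h1 (MulAction.injective u (e.trans hc.symm))
        have h4 : u • a ≠ d := fun e => h2 (MulAction.injective u (e.trans hd.symm))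
        simp [List.nodup_cons, Ne.symm ha, h1, h2, h3, h4, hcd]
      refine Finset.card_bij (fun p hp => q4 _ _ _ _ (hm p hp)) (fun _ _ => mem_univ _) ?_ ?_
      · rintro ⟨u, a, c, d⟩ hp ⟨u', a', c', d'⟩ hp' e
        have e0 : a = a' := DFunLike.congr_fun e 0
        have e1 : u • a = u' • a' := DFunLike.congr_fun e 1
        have e2 : c = c' := DFunLike.congr_fun e 2
        have e3 : d = d' := DFunLike.congr_fun e 3
        subst e0 e2 e3
        have hh := hm _ hp
        simp only [mem_sigma, mem_product, mem_offDiag, I, Fx, mem_filter, mem_univ,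
          true_and] at hp hp'
        have : u = u' := eq4 hs hh e1
          (by rw [invol_swap hp.1.1, e1, invol_swap hp'.1.1])
          (by rw [hp.2.2.1, hp'.2.2.1]) (by rw [hp.2.2.2.1, hp'.2.2.2.1])
        subst this; rfl
      · intro y _
        have hy : [y 0, y 1, y 2, y 3].Nodup := by simp [List.nodup_cons]
        have hy' : [y 1, y 0, y 2, y 3].Nodup := by simp [List.nodup_cons]
        obtain ⟨u, u1, u2, u3, u4⟩ := exists_map4 ht hy hy'
        refine ⟨⟨u, y 0, y 2, y 3⟩, ?_, ?_⟩
        · simp only [mem_sigma, mem_product, mem_offDiag, I, Fx, Mv, mem_filter, mem_univ,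
            true_and]
          refine ⟨⟨eq4 hs hy (by rw [mul_smul, one_smul, u1, u2]) (by rw [mul_smul, one_smul, u2, u1])
            (by rw [mul_smul, one_smul, u3, u3]) (by rw [mul_smul, one_smul, u4, u4]), ?_⟩,
            ?_, u3, u4, by simp⟩
          · intro h; rw [h, one_smul] at u1; simp at u1
          · rw [u1]; simp
        · refine Function.Embedding.ext fun i => ?_
          fin_cases i
          · rfl
          · exact u1
          · rfl
          · rfl
    rw [← this, Finset.card_sigma, Finset.sum_const_nat]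
    intro u hu
    have := hMv u
    have := hsame u hu t htI
    rw [Finset.card_product, Finset.offDiag_card, ← hf] at *
    congr 1 <;> [omega; (rw [this])]
  -- second count
  have c2 : I.card * ((n - f) * (n - f - 2)) = n.descFactorial 4 := by
    have : (I.sigma fun u => (Mv u).sigma fun a => Mv u \ {a, u • a}).card =
        n.descFactorial 4 := by
      have e : n.descFactorial 4 = (univ : Finset (Fin 4 ↪ α)).card := by
        rw [Finset.card_univ, Fintype.card_embedding_eq, Fintype.card_fin]
      rw [e]
      have hm : ∀ p ∈ (I.sigma fun u => (Mv u).sigma fun a => Mv u \ {a, u • a}),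
          [p.2.1, p.1 • p.2.1, p.2.2, p.1 • p.2.2].Nodup := by
        rintro ⟨u, a, c⟩ hp
        simp only [mem_sigma, mem_sdiff, I, Mv, mem_filter, mem_univ,
          true_and, Finset.mem_insert, Finset.mem_singleton, not_or] at hp
        obtain ⟨⟨hu2, -⟩, ha, hc, hca, hcb⟩ := hp
        have h3 : a ≠ u • c := fun e => hcb (by rw [e, invol_swap hu2])
        have h4 : u • a ≠ u • c := fun e => hca (MulAction.injective u e).symm
        simp [List.nodup_cons, Ne.symm ha, Ne.symm hc, Ne.symm hca, Ne.symm hcb, h3, h4]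
      refine Finset.card_bij (fun p hp => q4 _ _ _ _ (hm p hp)) (fun _ _ => mem_univ _) ?_ ?_
      · rintro ⟨u, a, c⟩ hp ⟨u', a', c'⟩ hp' e
        have e0 : a = a' := DFunLike.congr_fun e 0
        have e1 : u • a = u' • a' := DFunLike.congr_fun e 1
        have e2 : c = c' := DFunLike.congr_fun e 2
        have e3 : u • c = u' • c' := DFunLike.congr_fun e 3
        subst e0 e2
        have hh := hm _ hp
        simp only [mem_sigma, I, mem_filter, mem_univ, true_and] at hp hp'
        have : u = u' := eq4 hs hh e1
          (by rw [invol_swap hp.1.1, e1, invol_swap hp'.1.1]) e3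
          (by rw [invol_swap hp.1.1, e3, invol_swap hp'.1.1])
        subst this; rfl
      · intro y _
        have hy : [y 0, y 1, y 2, y 3].Nodup := by simp [List.nodup_cons]
        have hy' : [y 1, y 0, y 3, y 2].Nodup := by simp [List.nodup_cons]
        obtain ⟨u, u1, u2, u3, u4⟩ := exists_map4 ht hy hy'
        refine ⟨⟨u, y 0, y 2⟩, ?_, ?_⟩
        · simp only [mem_sigma, mem_sdiff, I, Mv, mem_filter, mem_univ,
            true_and, Finset.mem_insert, Finset.mem_singleton, not_or]
          refine ⟨⟨eq4 hs hy (by rw [mul_smul, one_smul, u1, u2]) (by rw [mul_smul, one_smul, u2, u1])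
            (by rw [mul_smul, one_smul, u3, u4]) (by rw [mul_smul, one_smul, u4, u3]), ?_⟩,
            ?_, ?_, ?_, ?_⟩
          · intro h; rw [h, one_smul] at u1; simp at u1
          · rw [u1]; simp
          · rw [u3]; simp
          · simp
          · rw [u1]; simp
        · refine Function.Embedding.ext fun i => ?_
          fin_cases i
          · rfl
          · exact u1
          · rfl
          · exact u3
    rw [← this, Finset.card_sigma, Finset.sum_const_nat]
    intro u hu
    have h1 := hMv u
    have h2 := hsame u hu t htI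
    rw [Finset.card_sigma, Finset.sum_const_nat (m := n - f - 2)]
    · congr 1; omega
    intro a ha
    have ha' := (mem_filter.1 ha).2
    have hu2 := (mem_filter.1 hu).2.1
    rw [Finset.card_sdiff_of_subset, Finset.card_pair (Ne.symm ha')]
    · omega
    · intro z hz
      simp only [Finset.mem_insert, Finset.mem_singleton] at hz
      rcases hz with rfl | rfl
      · exact ha
      · refine mem_filter.2 ⟨mem_univ _, ?_⟩
        rw [invol_swap hu2]; exact Ne.symm ha'
  have hpos : 0 < I.card := Finset.card_pos.2 ⟨t, htI⟩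
  have := c1.trans c2.symm
  rw [Nat.mul_left_cancel_iff hpos, Nat.mul_left_cancel_iff (by omega)] at this
  interval_cases f <;> omega

end Jordan

end Cfsg.Agent.SharplyTransitive
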